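import Cfsg.Agent.H13.CoTwo.Data

/-!
Kernel checks of the certificate of the Sylow 2-subgroup.
-/

set_option autoImplicit false
set_option Elab.async false
set_option maxRecDepth 100000

namespace Cfsg.Agent.H13.CoTwo

theorem two_rules : twoCert.C.checkRules = true := by decide +kernel

theorem two_shape : twoCert.checkShape = true := by decide +kernel

theorem two_eqs : twoCert.checkEqs = true := by decide +kernel

theorem two_proofs : twoCert.checkProofs = true := by decide +kernel

end Cfsg.Agent.H13.CoTwo
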