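import Cfsg.Agent.H13.CoTwo.Data

/-!
Kernel checks of the orbit lengths in the Sylow subgroups.
-/

set_option autoImplicit false
set_option Elab.async false
set_option maxRecDepth 100000

namespace Cfsg.Agent.H13.CoTwo

theorem two_levels : levelsOK twoLetters twoLevels = true := by decide +kernel

theorem bounds_eq : levelsBound twoLevels = 2 ^ 18 ∧ levelsBound threeLevels = 3 ^ 6 ∧
    levelsBound fiveLevels = 5 ^ 3 := by decide +kernel

end Cfsg.Agent.H13.CoTwo
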