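import Cfsg.Agent.H13.CoTwo.Odd.ThreeHead
import Cfsg.Agent.H13.CoTwo.Odd.ThreeS
import Cfsg.Agent.H13.CoTwo.Odd.ThreePair0
import Cfsg.Agent.H13.CoTwo.Odd.ThreePair1
import Cfsg.Agent.H13.CoTwo.Odd.ThreePair2
import Cfsg.Agent.H13.CoTwo.Odd.ThreeNorm0
import Cfsg.Agent.H13.CoTwo.Odd.ThreeNorm1
import Cfsg.Agent.H13.CoTwo.Odd.ThreeNorm2
import Cfsg.Agent.H13.CoTwo.Odd.ThreeNorm3
import Cfsg.Agent.H13.CoTwo.Odd.FiveHead
import Cfsg.Agent.H13.CoTwo.Odd.FiveNorm
import Cfsg.Agent.H13.CoTwo.Odd.ThreeLevelA
import Cfsg.Agent.H13.CoTwo.Odd.ThreeLevelB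
import Cfsg.Agent.H13.CoTwo.Odd.FiveLevels

/-!
The checks of the odd certificates and of their orbit lengths, from their pieces.
-/

set_option autoImplicit false
set_option maxRecDepth 100000

namespace Cfsg.Agent.H13.CoTwo

theorem three_levels : levelsOK (threeCert.A ++ threeCert.S) threeLevels = true := by
  have e : threeLevels = [threeLevels.getD 0 ⟨[], [], []⟩, threeLevels.getD 1 ⟨[], [], []⟩] := by
    unfold threeLevels; rfl
  rw [e]
  exact levelsOK_cons (levelOK_of 3 three_rest three_closed_take three_closed_drop) three_level_one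

theorem three_ok : threeCert.ok = true := by
  have hA : threeCert.A.length = 4 := by unfold threeCert; rfl
  have hS : threeCert.S.length = 2 := by unfold threeCert; rfl
  refine ok_of three_t three_A three_S (pairsOK_of fun i hi j hj => ?_) three_pS fun s hs a ha => ?_
  · rw [hA] at hi
    interval_cases i <;> interval_cases j
    exacts [three_pair_10, three_pair_20, three_pair_21, three_pair_30, three_pair_31, three_pair_32]
  · rw [hA] at ha
    rw [hS] at hs
    interval_cases s <;> interval_cases a
    exacts [three_norm_00, three_norm_01, three_norm_02, three_norm_03, three_norm_10, three_norm_11,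
      three_norm_12, three_norm_13]

theorem five_ok : fiveCert.ok = true := by
  have hA : fiveCert.A.length = 2 := by unfold fiveCert; rfl
  have hS : fiveCert.S.length = 1 := by unfold fiveCert; rfl
  refine ok_of five_t five_A five_S (pairsOK_of fun i hi j hj => ?_) five_pS fun s hs a ha => ?_
  · rw [hA] at hi
    interval_cases i <;> interval_cases j
    exact five_pair_10
  · rw [hA] at ha
    rw [hS] at hs
    interval_cases s <;> interval_cases a
    exacts [five_norm_00, five_norm_01]

end Cfsg.Agent.H13.CoTwo
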