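import Cfsg.Agent.H13.CoTwo.Data

/-!
Kernel checks of the relations and of the conjugating words of the Sylow 2-subgroup.
-/

set_option autoImplicit false
set_option Elab.async false
set_option maxRecDepth 100000

namespace Cfsg.Agent.H13.CoTwo

open Cfsg.Agent.H92.LeechOrbit Cfsg.Agent.H94.Mult

/-- The word of a normal form. -/
def nfWord (m : ℕ) : List (List Atom) := (bitsOf 18 m).map fun k => twoLetters.getD k []

/-- The checked equations. -/
noncomputable def sqOK : Bool :=
  (List.range 18).all fun j =>
    relOK [twoLetters.getD j [], twoLetters.getD j []] (nfWord (twoCert.C.R.sqRule j).1)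

/-- The checked commutator equations. -/
noncomputable def cmOK : Bool :=
  (List.range 18).all fun j => (List.range j).all fun i =>
    relOK [twoLetters.getD j [], twoLetters.getD i []]
      ([twoLetters.getD i [], twoLetters.getD j []] ++ nfWord (twoCert.C.R.cmRule j i).1)

/-- The checked conjugations of involutions. -/
noncomputable def fusOK : Bool :=
  (List.range twoCert.C.sqEqs.length).all fun k =>
    relOK (twoConj.getD k [] :: nfWord (twoCert.C.sqEqs.getD k (0, 0)).1)
      (nfWord (twoCert.C.sqEqs.getD k (0, 0)).2 ++ [twoConj.getD k []])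

/-- The checked conjugations of commuting pairs. -/
noncomputable def fusPairOK : Bool :=
  (List.range twoCert.cmEqs.length).all fun k =>
    relOK (twoPairConj.getD k [] :: nfWord (twoCert.cmEqs.getD k (0, 0, 0, 0)).1)
        (nfWord (twoCert.cmEqs.getD k (0, 0, 0, 0)).2.2.1 ++ [twoPairConj.getD k []]) &&
      relOK (twoPairConj.getD k [] :: nfWord (twoCert.cmEqs.getD k (0, 0, 0, 0)).2.1)
        (nfWord (twoCert.cmEqs.getD k (0, 0, 0, 0)).2.2.2 ++ [twoPairConj.getD k []])

theorem two_sq : sqOK = true := by decide +kernel

theorem two_cm : cmOK = true := by decide +kernel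

theorem two_fus : fusOK = true := by decide +kernel

theorem two_fusPair : fusPairOK = true := by decide +kernel

end Cfsg.Agent.H13.CoTwo
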