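import Cfsg.Agent.H13.CoTwo.CheckCert
import Cfsg.Agent.H13.CoTwo.CheckTwo
import Cfsg.Agent.H13.CoTwo.CheckLevels
import Cfsg.Agent.H13.CoTwo.CheckOdd
import Cfsg.Agent.H94.Mult.ThreePart

/-!
The stabiliser of a vector of norm four has no nontrivial stem extension.
-/

set_option autoImplicit false
set_option maxRecDepth 8000

namespace Cfsg.Agent.H13.CoTwo

open Cfsg Cfsg.Agent.Golay Cfsg.Agent.H92.LeechOrbit Cfsg.Agent.Linear.Mult Cfsg.Agent.H94.Mult

attribute [local irreducible] twoCert twoLetters twoConj twoPairConj twoLevels threeCert fiveCert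
  threeLevels fiveLevels relOK levelsOK

instance : Finite G := have := finite_co0; Subtype.finite

theorem card_G : Nat.card G = 42305421312000 := card_stab_min Golay.CoTwo.leechU_norm

theorem nfWord_prod (m : ℕ) :
    ((nfWord m).map el).prod
      = ((bitsOf 18 m).map fun k => el (twoLetters.getD k [])).prod := by
  simp [nfWord, List.map_map, Function.comp_def]

theorem two_n : twoCert.C.R.n = 18 := by unfold twoCert; rfl

/-- The model of the Sylow 2-subgroup. -/
noncomputable def twoModel : Model twoCert.C.R G where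
  G k := el (twoLetters.getD k [])
  V _ := 1
  V_zero := rfl
  V_xor _ _ := (one_mul _).symm
  V_central _ x := by rw [one_mul, mul_one]
  sq_rule i hi := by
    have h := two_sq
    rw [sqOK, List.all_eq_true] at h
    have e := eq_of_relOK (h i (List.mem_range.2 (two_n ▸ hi)))
    rw [nfWord_prod, ← two_n] at e
    simpa using e
  cm_rule i j hij hj := by
    have h := two_cm
    rw [cmOK, List.all_eq_true] at h
    have h' := List.all_eq_true.1 (h j (List.mem_range.2 (two_n ▸ hj))) i (List.mem_range.2 hij)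
    have e := eq_of_relOK h'
    rw [List.map_append, List.prod_append, nfWord_prod, ← two_n] at e
    simpa [mul_assoc] using e

theorem not_dvd_index {l k : ℕ} {H : Subgroup G} (hd : l ^ k ∣ Nat.card H)
    (hn : ¬ l ^ (k + 1) ∣ 42305421312000) : ¬ l ∣ H.index := fun hi => hn (by
  rw [← card_G, ← H.card_mul_index, pow_succ]
  exact mul_dvd_mul hd hi)

theorem noStem_two : NoStem 2 G := by
  refine noStem_of_killed Nat.prime_two fun Γ _ _ E => ⟨twoCert.C.grp twoModel, ?_⟩
  have hnf : ∀ m, twoModel.nf m = ((nfWord m).map el).prod := fun m => by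
    rw [nfWord_prod, ← two_n]; rfl
  have hfus : ∀ p ∈ twoCert.C.sqEqs, ∃ g : G, g * twoModel.nf p.1 * g⁻¹ = twoModel.nf p.2 := by
    intro p hp
    obtain ⟨k, hk, rfl⟩ := List.getElem_of_mem hp
    have h := two_fus
    rw [fusOK, List.all_eq_true] at h
    have e := eq_of_relOK (h k (List.mem_range.2 hk))
    rw [List.getD_eq_getElem _ _ hk] at e
    refine ⟨el (twoConj.getD k []), mul_inv_eq_iff_eq_mul.2 ?_⟩
    rw [hnf, hnf]
    simpa using e
  have hfus2 : ∀ p ∈ twoCert.cmEqs, ∃ g : G, g * twoModel.nf p.1 * g⁻¹ = twoModel.nf p.2.2.1 ∧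
      g * twoModel.nf p.2.1 * g⁻¹ = twoModel.nf p.2.2.2 := by
    intro p hp
    obtain ⟨k, hk, rfl⟩ := List.getElem_of_mem hp
    have h := two_fusPair
    rw [fusPairOK, List.all_eq_true] at h
    have hh := h k (List.mem_range.2 hk)
    rw [Bool.and_eq_true] at hh
    have e1 := eq_of_relOK hh.1
    have e2 := eq_of_relOK hh.2
    rw [List.getD_eq_getElem _ _ hk] at e1 e2
    refine ⟨el (twoPairConj.getD k []), mul_inv_eq_iff_eq_mul.2 ?_, mul_inv_eq_iff_eq_mul.2 ?_⟩
    · rw [hnf, hnf]; simpa using e1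
    · rw [hnf, hnf]; simpa using e2
  have hlet : twoLetters.length = 18 := by unfold twoLetters; rfl
  have hgen : grpOf twoLetters ≤ twoCert.C.grp twoModel := by
    rw [grpOf, Subgroup.closure_le]
    rintro _ ⟨w, hw, rfl⟩
    obtain ⟨k, hk, rfl⟩ := List.getElem_of_mem hw
    refine Subgroup.subset_closure ⟨k, by rw [two_n]; omega, ?_⟩
    show el (twoLetters.getD k []) = _
    rw [List.getD_eq_getElem _ _ hk]
  have hdvd : 2 ^ 18 ∣ Nat.card (twoCert.C.grp twoModel) :=
    ((dvd_of_eq bounds_eq.1.symm).trans (dvd_card twoLevels twoLetters two_levels)).trans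
      (Subgroup.card_dvd_of_le hgen)
  obtain ⟨hk, -⟩ := twoCert.killed E twoModel (fun _ => rfl) two_rules two_shape two_eqs two_proofs
    hfus hfus2 (by rw [two_n]; exact Nat.le_of_dvd Nat.card_pos hdvd)
  exact ⟨hk, not_dvd_index hdvd (by norm_num)⟩

theorem noStem_inv (C : InvCert) (Ls : List Level) {k : ℕ} (hl : C.l.Prime) (hl2 : C.l ≠ 2)
    (hC : C.ok = true) (hL : levelsOK (C.A ++ C.S) Ls = true) (hb : levelsBound Ls = C.l ^ k)
    (hn : ¬ C.l ^ (k + 1) ∣ 42305421312000) : NoStem C.l G :=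
  noStem_of_killed hl fun _ _ _ E => ⟨_, C.killed hl hl2 hC E,
    not_dvd_index ((dvd_of_eq hb.symm).trans (dvd_card Ls _ hL)) hn⟩

theorem noStem_three : NoStem 3 G := by
  have e : threeCert.l = 3 := by unfold threeCert; rfl
  rw [← e]
  exact noStem_inv threeCert threeLevels (by rw [e]; norm_num) (by rw [e]; norm_num) three_ok
    three_levels (k := 6) (by rw [e]; exact bounds_eq.2.1) (by rw [e]; norm_num)

theorem noStem_five : NoStem 5 G := by
  have e : fiveCert.l = 5 := by unfold fiveCert; rfl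
  rw [← e]
  exact noStem_inv fiveCert fiveLevels (by rw [e]; norm_num) (by rw [e]; norm_num) five_ok
    five_levels (k := 3) (by rw [e]; exact bounds_eq.2.2) (by rw [e]; norm_num)

theorem trivialMultiplier : HasCyclicSchurMultiplier G 1 := by
  refine hasTrivialMultiplier_of_noStem fun l hl => ?_
  by_cases h2 : l = 2
  · exact h2 ▸ noStem_two
  by_cases h3 : l = 3
  · exact h3 ▸ noStem_three
  by_cases h5 : l = 5
  · exact h5 ▸ noStem_five
  intro Γ _ _ σ hσ
  refine H94.Mult.noStem_cyclic σ hl (fun hd => ?_) hσ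
  rw [card_G, show 42305421312000 = (2 ^ 18 * (3 ^ 6 * 5 ^ 3)) * (7 * 11 * 23) by norm_num] at hd
  have hc : ∀ p : ℕ, p.Prime → l ≠ p → ∀ a, Nat.Coprime (l ^ 2) (p ^ a) := fun p hp h a =>
    Nat.Coprime.pow 2 a ((Nat.coprime_primes hl hp).2 h)
  have hd' := (((hc 2 Nat.prime_two h2 18).mul_right ((hc 3 Nat.prime_three h3 6).mul_right
    (hc 5 (by norm_num) h5 3))).dvd_of_dvd_mul_left hd)
  have hle : l ≤ 43 := by have := Nat.le_of_dvd (by norm_num) hd'; nlinarith
  have := hl.two_le
  interval_cases l <;> revert hd' <;> norm_num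

/-- The group is the stabiliser taken in all permutations. -/
theorem co2_equiv : Nonempty (G ≃* Spor.Co2) := by
  have hmap : G.map Co0.subtype = Spor.Co2 := by
    ext σ
    constructor
    · rintro ⟨g, hg, rfl⟩
      exact ⟨g.2, hg⟩
    · rintro ⟨h0, h1⟩
      exact ⟨⟨σ, h0⟩, h1, rfl⟩
  exact ⟨(G.equivMapOfInjective _ Co0.subtype_injective).trans (MulEquiv.subgroupCongr hmap)⟩

end Cfsg.Agent.H13.CoTwo
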