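import Cfsg.Agent.Golay.CoTwoOut
import Cfsg.Agent.H95.KilledInverted

/-!
Words in monomial maps and the sextet automorphism as elements of the stabiliser of the standard
vector of norm four, with checks of equations, lower bounds for subgroup orders and killed
subgroups of odd exponent.
-/

set_option autoImplicit false

namespace Cfsg.Agent.H13.CoTwo

open Cfsg Cfsg.Agent.Golay Cfsg.Agent.H92.LeechOrbit MulAction

/-- The stabiliser of the vector `(4, 4, 0²²)`. -/
abbrev G : Subgroup Co0 := stabilizer Co0 Spor.leechU

/-- The code of the vector. -/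
def uCode : ℕ := code24 fun i => if i = 0 ∨ i = 23 then 4 else 0

lemma dec_uCode : Spor.leechU.1 = dec uCode := by
  funext p
  revert p
  decide +kernel

/-- The image of a code under a word. -/
noncomputable def appW : List Atom → ℕ → ℕ
  | [], n => n
  | a :: r, n => appW r (appAtom a n)

/-- Valid atoms, fixing the vector. -/
noncomputable def uOK (w : List Atom) : Bool := w.all atomOK && chk w uCode uCode

/-- Two words act equally on the generators of the lattice. -/
noncomputable def sameOK (u v : List Atom) : Bool :=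
  u.all atomOK && v.all atomOK &&
    Golay.CoTwo.genCodes.all fun n => chk u n (appW u n) && chk v n (appW u n)

lemma wordEl_fix {w : List Atom} (h : uOK w = true) : wordEl w ∈ G := by
  rw [uOK, Bool.and_eq_true] at h
  exact Subtype.ext ((chk_sound h.1 h.2 dec_uCode).trans dec_uCode.symm)

/-- The element of a word. -/
noncomputable def el (w : List Atom) : G :=
  if h : uOK w = true then ⟨wordEl w, wordEl_fix h⟩ else 1

lemma el_val {w : List Atom} (h : uOK w = true) : (el w : Co0) = wordEl w := by
  rw [el, dif_pos h]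

lemma wordEl_eq_of_same {u v : List Atom} (h : sameOK u v = true) : wordEl u = wordEl v := by
  simp only [sameOK, Bool.and_eq_true, List.all_eq_true] at h
  obtain ⟨⟨hu, hv⟩, hg⟩ := h
  refine (inv_mul_eq_one.1 (Golay.CoTwo.eq_one_of_gens fun n hn x hx => ?_)).symm
  rw [mul_smul, inv_smul_eq_iff]
  exact Subtype.ext ((chk_sound (List.all_eq_true.2 hu) (hg n hn).1 hx).trans
    (chk_sound (List.all_eq_true.2 hv) (hg n hn).2 hx).symm)

/-- The word of a product of words. -/
def flat : List (List Atom) → List Atom
  | [] => []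
  | w :: r => flat r ++ w

/-- An equation between products of words. -/
noncomputable def relOK (L M : List (List Atom)) : Bool :=
  L.all uOK && M.all uOK && sameOK (flat L) (flat M)

lemma prod_el_val : ∀ {L : List (List Atom)}, L.all uOK = true →
    (((L.map el).prod : G) : Co0) = wordEl (flat L)
  | [], _ => rfl
  | w :: r, h => by
    rw [List.all_cons, Bool.and_eq_true] at h
    rw [flat, Golay.CoTwo.wordEl_append, List.map_cons, List.prod_cons, Subgroup.coe_mul,
      el_val h.1, prod_el_val h.2]

lemma eq_of_relOK {L M : List (List Atom)} (h : relOK L M = true) :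
    (L.map el).prod = (M.map el).prod := by
  simp only [relOK, Bool.and_eq_true] at h
  exact Subtype.ext (by rw [prod_el_val h.1.1, prod_el_val h.1.2, wordEl_eq_of_same h.2])

/-! ### Orbit lengths -/

/-- An orbit of a subgroup with the stabilising generators of the next one. -/
structure Level where
  /-- The orbit, starting with the point. -/
  pts : List ℕ
  /-- For each further point an earlier one and the generator carrying it there. -/
  tr : List (ℕ × ℕ)
  /-- Words of the generators of the next subgroup, as quotients of two products. -/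
  stab : List (List Atom × List ℕ × List ℕ)

/-- One level is correct. -/
noncomputable def levelOK (gens : List (List Atom)) (L : Level) : Bool :=
  (gens.all uOK) && inLeech (dec (L.pts.getD 0 0)) && (L.pts.all fun c => decide (c < 2 ^ 96)) &&
  decide (0 < L.pts.length) && Nat.beq (L.tr.length + 1) L.pts.length &&
  ((List.range L.pts.length).all fun i => (List.range i).all fun j =>
    !Nat.beq (L.pts.getD i 0) (L.pts.getD j 0)) &&
  ((List.range L.tr.length).all fun i =>
    decide ((L.tr.getD i (0, 0)).1 ≤ i) && decide ((L.tr.getD i (0, 0)).2 < gens.length) &&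
      chk (gens.getD (L.tr.getD i (0, 0)).2 []) (L.pts.getD (L.tr.getD i (0, 0)).1 0)
        (L.pts.getD (i + 1) 0)) &&
  (gens.all fun w => L.pts.all fun c =>
    chk w c (appW w c) && L.pts.any fun d => Nat.beq (appW w c) d) &&
  L.stab.all fun p => p.2.1.all (fun k => decide (k < gens.length)) &&
    p.2.2.all (fun k => decide (k < gens.length)) &&
    chk p.1 (L.pts.getD 0 0) (L.pts.getD 0 0) &&
    relOK (p.2.1.map (fun k => gens.getD k []) ++ [p.1]) (p.2.2.map fun k => gens.getD k [])

/-- All levels are correct. -/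
noncomputable def levelsOK : List (List Atom) → List Level → Bool
  | _, [] => true
  | gens, L :: r => levelOK gens L && levelsOK (L.stab.map Prod.fst) r

/-- The product of the orbit lengths. -/
def levelsBound : List Level → ℕ
  | [] => 1
  | L :: r => L.pts.length * levelsBound r

/-- The subgroup of a list of words. -/
noncomputable def grpOf (gens : List (List Atom)) : Subgroup G :=
  Subgroup.closure {x | ∃ w ∈ gens, el w = x}

theorem dvd_card : ∀ (Ls : List Level) (gens : List (List Atom)), levelsOK gens Ls = true →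
    levelsBound Ls ∣ Nat.card (grpOf gens)
  | [], _, _ => one_dvd _
  | L :: r, gens, h => by
    haveI := finite_co0
    rw [levelsOK, Bool.and_eq_true] at h
    have ih := dvd_card r _ h.2
    have h1 := h.1
    simp only [levelOK, Bool.and_eq_true, List.all_eq_true, decide_eq_true_eq, List.mem_range,
      Bool.not_eq_true', List.any_eq_true] at h1
    obtain ⟨⟨⟨⟨⟨⟨⟨⟨hu, hin⟩, hlt⟩, hpos⟩, hlen⟩, hnd⟩, htr⟩, hcl⟩, hnx⟩ := h1
    set H := grpOf gens
    set v : leechLattice := ⟨dec (L.pts.getD 0 0), mem_of_inLeech hin⟩
    have happ : ∀ {w : List Atom}, w ∈ gens → ∀ {x : leechLattice} {c d : ℕ}, x.1 = dec c →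
        chk w c d = true → (el w • x : leechLattice).1 = dec d := by
      intro w hw x c d hx hc
      have hwu := hu w hw
      have hok : w.all atomOK = true := by
        rw [uOK, Bool.and_eq_true] at hwu; exact hwu.1
      show ((el w : Co0) • x : leechLattice).1 = dec d
      rw [el_val hwu]
      exact chk_sound hok hc hx
    have hmemH : ∀ k, k < gens.length → el (gens.getD k []) ∈ H := fun k hk =>
      Subgroup.subset_closure ⟨_, by rw [List.getD_eq_getElem _ _ hk]; exact List.getElem_mem hk, rfl⟩
    set S : Set leechLattice := {x | ∃ c ∈ L.pts, x.1 = dec c}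
    have hgetmem : ∀ i < L.pts.length, L.pts.getD i 0 ∈ L.pts := fun i hi => by
      rw [List.getD_eq_getElem _ _ hi]; exact List.getElem_mem hi
    have hsub : ∀ g ∈ H, ∀ x ∈ S, g • x ∈ S := by
      intro g hg
      have hg' : g ∈ Submonoid.closure {x : G | ∃ w ∈ gens, el w = x} := by
        rw [← Subgroup.closure_toSubmonoid_of_finite]; exact hg
      clear hg
      induction hg' using Submonoid.closure_induction with
      | mem y hy =>
        rintro x ⟨c, hc, hx⟩
        obtain ⟨w, hw, rfl⟩ := hy
        obtain ⟨hc1, d, hd, he⟩ := hcl w hw c hc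
        exact ⟨d, hd, (happ hw hx hc1).trans (congrArg dec (Nat.eq_of_beq_eq_true he))⟩
      | one => exact fun x hx => by rwa [one_smul]
      | mul a b _ _ iha ihb => exact fun x hx => by rw [mul_smul]; exact iha _ (ihb _ hx)
    have hreach : ∀ i < L.pts.length, ∃ g ∈ H, (g • v : leechLattice).1 = dec (L.pts.getD i 0) := by
      intro i
      induction i using Nat.strong_induction_on with
      | _ i ihi =>
        intro hi
        cases i with
        | zero => exact ⟨1, one_mem _, by rw [one_smul]⟩
        | succ i =>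
          have hl : L.tr.length + 1 = L.pts.length := Nat.eq_of_beq_eq_true hlen
          obtain ⟨⟨hp, hg⟩, hc⟩ := htr i (by omega)
          obtain ⟨g, hgH, hgv⟩ := ihi (L.tr.getD i (0, 0)).1 (by omega) (by omega)
          refine ⟨el (gens.getD (L.tr.getD i (0, 0)).2 []) * g, mul_mem (hmemH _ hg) hgH, ?_⟩
          rw [mul_smul]
          exact happ (by rw [List.getD_eq_getElem _ _ hg]; exact List.getElem_mem hg) hgv hc
    have horb : orbit H v = S := by
      ext x
      constructor
      · rintro ⟨g, rfl⟩
        exact hsub g.1 g.2 v ⟨_, hgetmem 0 hpos, rfl⟩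
      · rintro ⟨c, hc, hx⟩
        obtain ⟨i, hi, rfl⟩ := List.getElem_of_mem hc
        obtain ⟨g, hg, hgv⟩ := hreach i hi
        exact ⟨⟨g, hg⟩, Subtype.ext (hgv.trans (by rw [List.getD_eq_getElem _ _ hi, hx]))⟩
    have hcard : S.ncard = L.pts.length := by
      have hmem : ∀ i < L.pts.length, dec (L.pts.getD i 0) ∈ leechLattice := fun i hi => by
        obtain ⟨g, -, hg⟩ := hreach i hi
        exact hg ▸ (g • v).2
      let f : Fin L.pts.length → S := fun i => ⟨⟨_, hmem i i.2⟩, _, hgetmem i i.2, rfl⟩
      have hf : Function.Bijective f := by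
        refine ⟨fun i j hij => Fin.ext ?_, fun ⟨x, c, hc, hx⟩ => ?_⟩
        · have e : dec (L.pts.getD i 0) = dec (L.pts.getD j 0) :=
            congrArg (fun s : S => (s.1 : GolayPt → ℤ)) hij
          have e' := dec_injOn_of (hlt _ (hgetmem i i.2)) (hlt _ (hgetmem j j.2)) e
          rcases lt_trichotomy i.1 j.1 with l | l | l
          · have := hnd j j.2 i l
            rw [e'] at this
            exact absurd this (by rw [Nat.beq_refl]; simp)
          · exact l
          · have := hnd i i.2 j l
            rw [e'] at this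
            exact absurd this (by rw [Nat.beq_refl]; simp)
        · obtain ⟨i, hi, rfl⟩ := List.getElem_of_mem hc
          exact ⟨⟨i, hi⟩, Subtype.ext (Subtype.ext (by
            show dec (L.pts.getD i 0) = x.1
            rw [List.getD_eq_getElem _ _ hi, hx]))⟩
      rw [← Nat.card_coe_set_eq, ← Nat.card_eq_of_bijective f hf, Nat.card_fin]
    have hindex : (stabilizer H v).index = L.pts.length := by
      rw [index_stabilizer, horb, hcard]
    have hle : grpOf (L.stab.map Prod.fst) ≤ (stabilizer H v).map H.subtype := by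
      rw [grpOf, Subgroup.closure_le]
      rintro _ ⟨w, hw, rfl⟩
      obtain ⟨p, hp, rfl⟩ := List.mem_map.1 hw
      obtain ⟨⟨⟨hp1, hp2⟩, hfix⟩, hrel⟩ := hnx p hp
      have hu1 : uOK p.1 = true := by
        simp only [relOK, Bool.and_eq_true, List.all_eq_true] at hrel
        exact hrel.1.1 _ (by simp)
      have he := eq_of_relOK hrel
      rw [List.map_append, List.prod_append, List.map_cons, List.map_nil, List.prod_cons,
        List.prod_nil, mul_one, List.map_map, List.map_map] at he
      have hin' : ∀ l : List ℕ, (∀ k ∈ l, k < gens.length) →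
          (l.map (el ∘ fun k => gens.getD k [])).prod ∈ H := fun l hl =>
        list_prod_mem fun x hx => by
          obtain ⟨k, hk, rfl⟩ := List.mem_map.1 hx
          exact hmemH k (hl k hk)
      have hmem : el p.1 ∈ H := by
        rw [eq_inv_mul_of_mul_eq he]
        exact mul_mem (inv_mem (hin' _ hp1)) (hin' _ hp2)
      refine ⟨⟨_, hmem⟩, Subtype.ext ?_, rfl⟩
      show ((el p.1 : Co0) • v : leechLattice).1 = v.1
      rw [el_val hu1]
      have hok : p.1.all atomOK = true := by
        rw [uOK, Bool.and_eq_true] at hu1; exact hu1.1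
      exact chk_sound hok hfix rfl
    have hd := ih.trans (Subgroup.card_dvd_of_le hle)
    rw [Subgroup.card_map_of_injective H.subtype_injective] at hd
    rw [levelsBound, ← Subgroup.index_mul_card (stabilizer H v), hindex]
    exact mul_dvd_mul_left _ hd

/-! ### Killed subgroups of odd exponent -/

/-- Commuting elements inverted by `t`, commuting elements centralised by it, with conjugating
witnesses: form 0 inverts the first and fixes the second, 1 the opposite, 2 swaps them, further
ones swap and invert. -/
structure InvCert where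
  /-- The prime. -/
  l : ℕ
  /-- The inverted generators. -/
  A : List (List Atom)
  /-- The centralised generators. -/
  S : List (List Atom)
  /-- The involution. -/
  t : List Atom
  /-- Witnesses for pairs of inverted generators. -/
  pA : List (ℕ × ℕ × List Atom × ℕ)
  /-- Witnesses for pairs of centralised generators. -/
  pS : List (ℕ × ℕ × List Atom × ℕ)
  /-- Conjugates of the inverted generators under the others, as products. -/
  norm : List (ℕ × ℕ × List ℕ)

namespace InvCert

/-- Witnesses for the pairs of a list. -/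
noncomputable def pairsOK (L : List (List Atom)) (P : List (ℕ × ℕ × List Atom × ℕ)) : Bool :=
  (List.range L.length).all fun i => (List.range i).all fun j =>
    P.any fun p => Nat.beq p.1 i && Nat.beq p.2.1 j &&
      relOK [L.getD i [], L.getD j []] [L.getD j [], L.getD i []] &&
      match p.2.2.2 with
      | 0 => relOK [L.getD i [], p.2.2.1, L.getD i []] [p.2.2.1] &&
          relOK [p.2.2.1, L.getD j []] [L.getD j [], p.2.2.1]
      | 1 => relOK [p.2.2.1, L.getD i []] [L.getD i [], p.2.2.1] &&
          relOK [L.getD j [], p.2.2.1, L.getD j []] [p.2.2.1]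
      | 2 => relOK [p.2.2.1, L.getD i []] [L.getD j [], p.2.2.1] &&
          relOK [p.2.2.1, L.getD j []] [L.getD i [], p.2.2.1]
      | _ => relOK [L.getD j [], p.2.2.1, L.getD i []] [p.2.2.1] &&
          relOK [L.getD i [], p.2.2.1, L.getD j []] [p.2.2.1]

variable (C : InvCert)

/-- The certificate is correct. -/
noncomputable def ok : Bool :=
  relOK [C.t, C.t] [] &&
  (C.A.all fun a => relOK [a, C.t, a] [C.t]) &&
  (C.S.all fun s => relOK [C.t, s] [s, C.t] && relOK (List.replicate C.l s) []) &&
  pairsOK C.A C.pA && pairsOK C.S C.pS &&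
  ((List.range C.S.length).all fun s => (List.range C.A.length).all fun a =>
    C.norm.any fun q => Nat.beq q.1 s && Nat.beq q.2.1 a &&
      (q.2.2.all fun k => decide (k < C.A.length)) &&
      relOK [C.S.getD s [], C.A.getD a []]
        (q.2.2.map (fun k => C.A.getD k []) ++ [C.S.getD s []]))

open Cfsg.Agent.Linear.Mult in
theorem cm_pairs {l : ℕ} (hl2 : l ≠ 2) {X : Type*} [Group X] (E : LExt l X G)
    {L : List (List Atom)} {P : List (ℕ × ℕ × List Atom × ℕ)} (h : pairsOK L P = true) :
    ∀ a ∈ L, ∀ b ∈ L, E.cm (el a) (el b) = 1 := by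
  have key : ∀ i j, i < L.length → j < i → E.cm (el (L.getD i [])) (el (L.getD j [])) = 1 := by
    intro i j hi hj
    simp only [pairsOK, List.all_eq_true, List.mem_range, List.any_eq_true] at h
    obtain ⟨⟨i', j', g, k⟩, -, hp⟩ := h i hi j hj
    simp only [Bool.and_eq_true] at hp
    obtain ⟨⟨-, hc⟩, hk⟩ := hp
    have hcomm : Commute (el (L.getD i [])) (el (L.getD j [])) := by
      simpa [Commute, SemiconjBy] using eq_of_relOK hc
    refine Cfsg.Agent.H95.KilledInverted.cm_eq_one_of_conj E hl2 hcomm (el g) ?_
    have inv : ∀ {a b w : List Atom}, relOK [b, w, a] [w] = true →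
        el w * el a * (el w)⁻¹ = (el b)⁻¹ := by
      intro a b w hr
      have e := eq_of_relOK hr
      simp only [List.map_cons, List.map_nil, List.prod_cons, List.prod_nil, mul_one] at e
      rw [eq_inv_iff_mul_eq_one]
      apply mul_left_cancel (a := el b)
      calc el b * (el w * el a * (el w)⁻¹ * el b) = el b * (el w * el a) * (el w)⁻¹ * el b := by
            group
        _ = el b * 1 := by rw [e]; group
    have fwd : ∀ {a b w : List Atom}, relOK [w, a] [b, w] = true →
        el w * el a * (el w)⁻¹ = el b := by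
      intro a b w hr
      have e := eq_of_relOK hr
      simp only [List.map_cons, List.map_nil, List.prod_cons, List.prod_nil, mul_one] at e
      exact mul_inv_eq_iff_eq_mul.2 e
    match k with
    | 0 =>
      simp only [Bool.and_eq_true] at hk
      exact Or.inl ⟨inv hk.1, fwd hk.2⟩
    | 1 =>
      simp only [Bool.and_eq_true] at hk
      exact Or.inr (Or.inl ⟨fwd hk.1, inv hk.2⟩)
    | 2 =>
      simp only [Bool.and_eq_true] at hk
      exact Or.inr (Or.inr (Or.inl ⟨fwd hk.1, fwd hk.2⟩))
    | k + 3 =>
      simp only [Bool.and_eq_true] at hk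
      exact Or.inr (Or.inr (Or.inr ⟨inv hk.1, inv hk.2⟩))
  intro a ha b hb
  obtain ⟨i, hi, rfl⟩ := List.getElem_of_mem ha
  obtain ⟨j, hj, rfl⟩ := List.getElem_of_mem hb
  rw [← List.getD_eq_getElem _ [] hi, ← List.getD_eq_getElem _ [] hj]
  rcases lt_trichotomy i j with l' | rfl | l'
  · rw [← E.cm_inv, key j i hj l', inv_one]
  · exact E.cm_self _
  · exact key i j hi l'

open Cfsg.Agent.Linear.Mult in
theorem killed (hl : C.l.Prime) (hl2 : C.l ≠ 2) (h : C.ok = true) {X : Type*} [Group X] [Finite X]
    (E : LExt C.l X G) : E.Killed (grpOf (C.A ++ C.S)) := by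
  haveI := finite_co0
  simp only [ok, Bool.and_eq_true, List.all_eq_true, List.mem_range, List.any_eq_true,
    decide_eq_true_eq] at h
  obtain ⟨⟨⟨⟨⟨htt, hA⟩, hS⟩, hpA⟩, hpS⟩, hnorm⟩ := h
  have hset : {x : G | ∃ w ∈ C.A ++ C.S, el w = x}
      = {x | ∃ w ∈ C.A, el w = x} ∪ {x | ∃ w ∈ C.S, el w = x} := by
    ext x
    simp only [List.mem_append, Set.mem_setOf_eq, Set.mem_union]
    constructor
    · rintro ⟨w, hw | hw, rfl⟩
      exacts [.inl ⟨w, hw, rfl⟩, .inr ⟨w, hw, rfl⟩]
    · rintro (⟨w, hw, rfl⟩ | ⟨w, hw, rfl⟩)
      exacts [⟨w, .inl hw, rfl⟩, ⟨w, .inr hw, rfl⟩]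
  rw [grpOf, hset]
  have ht2 : el C.t ^ 2 = 1 := by
    simpa [pow_two] using eq_of_relOK htt
  have hts : ∀ s ∈ C.S, Commute (el C.t) (el s) := fun s hs => by
    simpa [Commute, SemiconjBy] using eq_of_relOK (hS s hs).1
  refine Cfsg.Agent.H95.KilledInverted.killed E hl2 _ _ (el C.t) ?_ ?_ ?_ ?_ ?_ ?_
  · rintro _ ⟨a, ha, rfl⟩
    have e := eq_of_relOK (hA a ha)
    simp only [List.map_cons, List.map_nil, List.prod_cons, List.prod_nil, mul_one] at e
    rw [eq_inv_iff_mul_eq_one]
    apply mul_left_cancel (a := el a)
    calc el a * (el C.t * el a * (el C.t)⁻¹ * el a) = el a * (el C.t * el a) * (el C.t)⁻¹ * el a := by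
          group
      _ = el a * 1 := by rw [e]; group
  · rintro _ ⟨s, hs, rfl⟩
    exact hts s hs
  · rintro _ ⟨s, hs, rfl⟩
    refine E.cm_eq_one_of_coprime (hts s hs) ?_
    have hsl : el s ^ C.l = 1 := by simpa using eq_of_relOK (hS s hs).2
    exact Nat.Coprime.coprime_dvd_left (orderOf_dvd_of_pow_eq_one ht2)
      (Nat.Coprime.coprime_dvd_right (orderOf_dvd_of_pow_eq_one hsl)
        ((Nat.coprime_primes Nat.prime_two hl).2 (Ne.symm hl2)))
  · rintro _ ⟨a, ha, rfl⟩ _ ⟨b, hb, rfl⟩
    exact cm_pairs hl2 E hpA a ha b hb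
  · rintro _ ⟨a, ha, rfl⟩ _ ⟨b, hb, rfl⟩
    exact cm_pairs hl2 E hpS a ha b hb
  · rintro _ ⟨s, hs, rfl⟩ _ ⟨a, ha, rfl⟩
    obtain ⟨i, hi, rfl⟩ := List.getElem_of_mem hs
    obtain ⟨j, hj, rfl⟩ := List.getElem_of_mem ha
    obtain ⟨q, -, ⟨⟨-, hlt⟩, hr⟩⟩ := hnorm i hi j hj
    have e := eq_of_relOK hr
    rw [List.getD_eq_getElem _ [] hi, List.getD_eq_getElem _ [] hj] at e
    simp only [List.map_cons, List.map_nil, List.map_append, List.prod_append, List.prod_cons,
      List.prod_nil, mul_one] at e
    rw [e, mul_inv_cancel_right]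
    refine list_prod_mem fun x hx => ?_
    obtain ⟨w, hw, rfl⟩ := List.mem_map.1 hx
    obtain ⟨k, hk, rfl⟩ := List.mem_map.1 hw
    exact Subgroup.subset_closure ⟨_, by
      rw [List.getD_eq_getElem _ [] (hlt k hk)]; exact List.getElem_mem _, rfl⟩

end InvCert

end Cfsg.Agent.H13.CoTwo
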